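import Mathlib
import Groth.Prelude.Def_QFDual

/-!
# Compatibility of `omegaBC` with a further extension of the target ring
-/

set_option autoImplicit false
set_option linter.style.haveILetI false
set_option linter.unusedSectionVars false
universe u

namespace Groth.Agent.H78.QFBC

open TensorProduct

variable {A A₁ B' B'₁ B₁ D : Type u} [CommRing A] [CommRing A₁] [CommRing B'] [CommRing B'₁]
  [CommRing B₁] [CommRing D]
  [Algebra A B'] [Algebra A A₁] [Algebra B' B'₁] [Algebra A₁ B'₁] [Algebra A B'₁]
  [IsScalarTower A A₁ B'₁] [IsScalarTower A B' B'₁]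
  [Algebra B'₁ B₁] [Algebra B' B₁] [IsScalarTower B' B'₁ B₁]
  [Algebra B₁ D] [Algebra B'₁ D] [Algebra B' D] [IsScalarTower B' B'₁ D] [IsScalarTower B'₁ B₁ D]
  [IsScalarTower B' B₁ D]

theorem omegaBC_cancelBaseChange (h : Algebra.IsPushout A A₁ B' B'₁)
    (z : D ⊗[B₁] (B₁ ⊗[B'] Disc.Omega A B')) :
    QFDual.omegaBC (B₁ := D) h
        (AlgebraTensorModule.cancelBaseChange B' B₁ D D (Disc.Omega A B') z) =
      AlgebraTensorModule.cancelBaseChange B'₁ B₁ D D (Disc.Omega A₁ B'₁)
        (LinearMap.lTensor D (QFDual.omegaBC (B₁ := B₁) h) z) := by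
  induction z using TensorProduct.induction_on with
  | zero => simp
  | tmul d y =>
    induction y using TensorProduct.induction_on with
    | zero => simp
    | tmul b φ =>
      rw [AlgebraTensorModule.cancelBaseChange_tmul, LinearMap.lTensor_tmul,
        QFDual.omegaBC_tmul, QFDual.omegaBC_tmul, AlgebraTensorModule.cancelBaseChange_tmul]
    | add x y hx hy =>
      rw [tmul_add, map_add, map_add, hx, hy, map_add, map_add]
  | add x y hx hy => rw [map_add, map_add, hx, hy, map_add, map_add]

theorem lTensor_bijective_iff (h : Algebra.IsPushout A A₁ B' B'₁) :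
    Function.Bijective (LinearMap.lTensor D (QFDual.omegaBC (B₁ := B₁) h)) ↔
      Function.Bijective (QFDual.omegaBC (B₁ := D) h) := by
  have hcomp : (QFDual.omegaBC (B₁ := D) h : _ → _) ∘
      (AlgebraTensorModule.cancelBaseChange B' B₁ D D (Disc.Omega A B') : _ → _) =
      (AlgebraTensorModule.cancelBaseChange B'₁ B₁ D D (Disc.Omega A₁ B'₁) : _ → _) ∘
        (LinearMap.lTensor D (QFDual.omegaBC (B₁ := B₁) h) : _ → _) := by
    funext z
    exact omegaBC_cancelBaseChange h z
  constructor
  · intro H
    have h1 : Function.Bijective ((QFDual.omegaBC (B₁ := D) h : _ → _) ∘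
        (AlgebraTensorModule.cancelBaseChange B' B₁ D D (Disc.Omega A B') : _ → _)) := by
      rw [hcomp]
      exact (LinearEquiv.bijective _).comp H
    exact (Function.Bijective.of_comp_iff _ (LinearEquiv.bijective _)).mp h1
  · intro H
    have h1 : Function.Bijective
        ((AlgebraTensorModule.cancelBaseChange B'₁ B₁ D D (Disc.Omega A₁ B'₁) : _ → _) ∘
        (LinearMap.lTensor D (QFDual.omegaBC (B₁ := B₁) h) : _ → _)) := by
      rw [← hcomp]
      exact H.comp (LinearEquiv.bijective _)
    exact (Function.Bijective.of_comp_iff' (LinearEquiv.bijective _) _).mp h1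

/-- bijectivity of `omegaBC` passes to any further extension of the target ring -/
theorem omegaBC_bijective_of_algebra (h : Algebra.IsPushout A A₁ B' B'₁)
    (H : Function.Bijective (QFDual.omegaBC (B₁ := B₁) h)) :
    Function.Bijective (QFDual.omegaBC (B₁ := D) h) := by
  rw [← lTensor_bijective_iff (B₁ := B₁)]
  exact (LinearEquiv.lTensor D (LinearEquiv.ofBijective _ H)).bijective

/-- bijectivity of `omegaBC` descends along a faithfully flat extension of the target ring -/
theorem omegaBC_bijective_of_faithfullyFlat (h : Algebra.IsPushout A A₁ B' B'₁)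
    [Module.FaithfullyFlat B₁ D] (H : Function.Bijective (QFDual.omegaBC (B₁ := D) h)) :
    Function.Bijective (QFDual.omegaBC (B₁ := B₁) h) := by
  rw [← lTensor_bijective_iff (B₁ := B₁)] at H
  exact (Module.FaithfullyFlat.lTensor_bijective_iff_bijective B₁ D _).mp H

end Groth.Agent.H78.QFBC
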