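import Mathlib
import Groth.Agent.H78.QFFlat.LocalFactor
import Groth.Agent.H78.QFFlat.Core

/-!
# The local factor after a henselian flat base change: faithful flatness and freeness
-/

set_option autoImplicit false
set_option linter.style.haveILetI false
set_option linter.unusedSectionVars false
universe u

namespace Groth.Agent.H78.QFBC

open TensorProduct IsLocalRing Groth.Agent.H78.QFFlat

variable {A B' A₁ B'₁ : Type u} [CommRing A] [CommRing B'] [CommRing A₁] [CommRing B'₁]
  [Algebra A B'] [Module.Finite A B'] [Algebra A A₁] [Module.Flat A A₁]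
  [Algebra B' B'₁] [Algebra A₁ B'₁] [Algebra A B'₁] [IsScalarTower A A₁ B'₁]
  [IsScalarTower A B' B'₁]

/-- The local factor `C = B'₁/(1-e)` of `B'₁ = A₁ ⊗_A B'` at a prime `n` over the closed point of
the henselian local ring `A₁` and over `q₀`: it is a faithfully flat `B'_{q₀}`-algebra, and it is
finite free over `A₁` as soon as `B'_{q₀}` is `A`-flat. -/
theorem exists_local_factor_struct (h : Algebra.IsPushout A A₁ B' B'₁)
    [HenselianLocalRing A₁] (q₀ : Ideal B') [q₀.IsPrime] (n : Ideal B'₁) [n.IsPrime]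
    [n.LiesOver (maximalIdeal A₁)] (hn : n.comap (algebraMap B' B'₁) = q₀) :
    ∃ e : B'₁, IsIdempotentElem e ∧ e ∉ n ∧ Module.Finite A₁ (B'₁ ⧸ Ideal.span {1 - e}) ∧
      ∃ _ : IsLocalRing (B'₁ ⧸ Ideal.span {1 - e}),
        (maximalIdeal (B'₁ ⧸ Ideal.span {1 - e})).comap (Ideal.Quotient.mk _) = n ∧
        (∃ (_ : Algebra (Localization.AtPrime q₀) (B'₁ ⧸ Ideal.span {1 - e}))
          (_ : IsScalarTower B' (Localization.AtPrime q₀) (B'₁ ⧸ Ideal.span {1 - e})),
          Module.FaithfullyFlat (Localization.AtPrime q₀) (B'₁ ⧸ Ideal.span {1 - e})) ∧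
        (Module.Flat A (Localization.AtPrime q₀) → Module.Free A₁ (B'₁ ⧸ Ideal.span {1 - e})) := by
  haveI : Module.Finite A₁ B'₁ :=
    Module.Finite.equiv (h.out.equiv : A₁ ⊗[A] B' ≃ₗ[A₁] B'₁)
  haveI : Module.Flat B' B'₁ := Module.Flat.isBaseChange A B' A₁ B'₁ h.symm.out
  obtain ⟨e, he, hen, hfin, hloc, hcomap⟩ := exists_local_factor A₁ B'₁ n
  refine ⟨e, he, hen, hfin, hloc, hcomap, ?_⟩
  have hAt := isLocalization_atPrime_factor e he n hcomap
  set C := B'₁ ⧸ Ideal.span {1 - e}
  set S₀ := Localization.AtPrime q₀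
  set M₀ := Algebra.algebraMapSubmonoid B'₁ q₀.primeCompl
  set T' := Localization M₀
  have hM₀ : M₀ ≤ n.primeCompl := by
    rintro _ ⟨b, hb, rfl⟩
    change algebraMap B' B'₁ b ∉ n
    rw [← Ideal.mem_comap, hn]
    exact hb
  -- `C` as a `T'`-algebra
  have hunits : ∀ y : M₀, IsUnit (algebraMap B'₁ C y) := fun y =>
    IsLocalization.map_units (M := n.primeCompl) C ⟨y.1, hM₀ y.2⟩
  letI algT'C : Algebra T' C :=
    (IsLocalization.lift (M := M₀) (g := algebraMap B'₁ C) hunits).toAlgebra
  haveI towT'C : IsScalarTower B'₁ T' C := IsScalarTower.of_algebraMap_eq fun x => by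
    rw [RingHom.algebraMap_toAlgebra, IsLocalization.lift_eq]
  haveI : IsLocalization (n.primeCompl.map (algebraMap B'₁ T')) C :=
    IsLocalization.isLocalization_of_submonoid_le T' C M₀ n.primeCompl hM₀
  haveI hCT' : Module.Flat T' C := IsLocalization.flat C (n.primeCompl.map (algebraMap B'₁ T'))
  haveI towA₁T'C : IsScalarTower A₁ T' C := IsScalarTower.of_algebraMap_eq fun x => by
    rw [IsScalarTower.algebraMap_apply A₁ B'₁ C, IsScalarTower.algebraMap_apply B'₁ T' C,
      ← IsScalarTower.algebraMap_apply A₁ B'₁ T']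
  -- `C` as an `S₀`-algebra
  letI algS₀C : Algebra S₀ C := ((algebraMap T' C).comp (algebraMap S₀ T')).toAlgebra
  haveI towS₀T'C : IsScalarTower S₀ T' C := IsScalarTower.of_algebraMap_eq fun x => rfl
  haveI towB'S₀C : IsScalarTower B' S₀ C := IsScalarTower.of_algebraMap_eq fun x => by
    change _ = algebraMap T' C (algebraMap S₀ T' (algebraMap B' S₀ x))
    rw [← IsScalarTower.algebraMap_apply B' S₀ T', IsScalarTower.algebraMap_apply B' B'₁ T',
      ← IsScalarTower.algebraMap_apply B'₁ T' C, ← IsScalarTower.algebraMap_apply B' B'₁ C]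
  haveI hCS₀ : Module.Flat S₀ C := Module.Flat.trans S₀ T' C
  haveI hlocal : IsLocalHom (algebraMap S₀ C) := by
    constructor
    intro x hx
    obtain ⟨b, s, rfl⟩ := IsLocalization.exists_mk'_eq q₀.primeCompl x
    have h1 : IsUnit (algebraMap S₀ C (algebraMap B' S₀ b)) := by
      have h2 : algebraMap B' S₀ b = IsLocalization.mk' S₀ b s * algebraMap B' S₀ s := by
        rw [IsLocalization.mk'_spec]
      rw [h2, map_mul]
      exact hx.mul ((IsLocalization.map_units S₀ s).map _)
    rw [← IsScalarTower.algebraMap_apply B' S₀ C, IsScalarTower.algebraMap_apply B' B'₁ C] at h1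
    have h3 : algebraMap B' B'₁ b ∉ n := by
      intro hmem
      have : algebraMap B'₁ C (algebraMap B' B'₁ b) ∈ maximalIdeal C := by
        rw [← Ideal.mem_comap]
        change algebraMap B' B'₁ b ∈ (maximalIdeal C).comap (Ideal.Quotient.mk _)
        rw [hcomap]
        exact hmem
      exact ((IsLocalRing.mem_maximalIdeal _).mp this) h1
    have h4 : b ∉ q₀ := by
      rw [← hn, Ideal.mem_comap]
      exact h3
    have hv : IsUnit (algebraMap B' S₀ b) :=
      IsLocalization.map_units (M := q₀.primeCompl) S₀ ⟨b, h4⟩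
    rw [← IsLocalization.mk'_spec S₀ b s] at hv
    exact isUnit_of_mul_isUnit_left hv
  refine ⟨⟨algS₀C, towB'S₀C, Module.FaithfullyFlat.of_flat_of_isLocalHom⟩, fun hflat => ?_⟩
  haveI := hflat
  have hT'flat : Module.Flat A₁ T' := flat_localization_baseChange h q₀
  haveI hCflat : Module.Flat A₁ C := Module.Flat.trans A₁ T' C
  exact Module.free_of_flat_of_isLocalRing

end Groth.Agent.H78.QFBC
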