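import Mathlib
import Groth.Prelude.Def_QFDual

/-!
# Transitivity of the base-change maps `bcFin` and `omegaBC`
-/

set_option autoImplicit false
set_option linter.style.haveILetI false
set_option linter.unusedSectionVars false
universe u

namespace Groth.Agent.H78.QFBC

open TensorProduct

variable {A A₁ A₂ B' B'₁ B'₂ : Type u} [CommRing A] [CommRing A₁] [CommRing A₂] [CommRing B']
  [CommRing B'₁] [CommRing B'₂]
  [Algebra A B'] [Algebra A A₁] [Algebra B' B'₁] [Algebra A₁ B'₁] [Algebra A B'₁]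
  [IsScalarTower A A₁ B'₁] [IsScalarTower A B' B'₁]
  [Algebra A₁ A₂] [Algebra B'₁ B'₂] [Algebra A₂ B'₂] [Algebra A₁ B'₂]
  [IsScalarTower A₁ A₂ B'₂] [IsScalarTower A₁ B'₁ B'₂]
  [Algebra A A₂] [Algebra B' B'₂] [Algebra A B'₂]
  [IsScalarTower A A₂ B'₂] [IsScalarTower A B' B'₂]
  [IsScalarTower A A₁ A₂] [IsScalarTower B' B'₁ B'₂]

theorem bcFin_trans (h₀₁ : Algebra.IsPushout A A₁ B' B'₁) (h₁₂ : Algebra.IsPushout A₁ A₂ B'₁ B'₂)
    (h₀₂ : Algebra.IsPushout A A₂ B' B'₂) (φ : Disc.Omega A B') :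
    QFDual.bcFin h₁₂ (QFDual.bcFin h₀₁ φ) = QFDual.bcFin h₀₂ φ := by
  apply Disc.Omega.ext
  refine h₀₂.out.algHom_ext _ _ fun x => ?_
  change (QFDual.bcFin h₁₂ (QFDual.bcFin h₀₁ φ)).toLinearMap (algebraMap B' B'₂ x) =
    (QFDual.bcFin h₀₂ φ).toLinearMap (algebraMap B' B'₂ x)
  rw [QFDual.bcFin_apply_algebraMap, IsScalarTower.algebraMap_apply B' B'₁ B'₂,
    QFDual.bcFin_apply_algebraMap, QFDual.bcFin_apply_algebraMap,
    ← IsScalarTower.algebraMap_apply]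

variable {D : Type u} [CommRing D] [Algebra B'₂ D] [Algebra B'₁ D] [Algebra B' D]
  [IsScalarTower B' B'₁ D] [IsScalarTower B'₁ B'₂ D] [IsScalarTower B' B'₂ D]

theorem omegaBC_trans (h₀₁ : Algebra.IsPushout A A₁ B' B'₁)
    (h₁₂ : Algebra.IsPushout A₁ A₂ B'₁ B'₂) (h₀₂ : Algebra.IsPushout A A₂ B' B'₂)
    (z : D ⊗[B'] Disc.Omega A B') :
    QFDual.omegaBC (B₁ := D) h₁₂ (QFDual.omegaBC (B₁ := D) h₀₁ z) =
      QFDual.omegaBC (B₁ := D) h₀₂ z := by
  induction z using TensorProduct.induction_on with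
  | zero => simp
  | tmul d φ =>
    rw [QFDual.omegaBC_tmul, QFDual.omegaBC_tmul, QFDual.omegaBC_tmul, bcFin_trans h₀₁ h₁₂ h₀₂]
  | add x y hx hy => rw [map_add, map_add, map_add, hx, hy]

/-- if the second and the composite base-change maps are bijective, so is the first -/
theorem omegaBC_bijective_of_trans (h₀₁ : Algebra.IsPushout A A₁ B' B'₁)
    (h₁₂ : Algebra.IsPushout A₁ A₂ B'₁ B'₂) (h₀₂ : Algebra.IsPushout A A₂ B' B'₂)
    (H₁₂ : Function.Bijective (QFDual.omegaBC (B₁ := D) h₁₂))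
    (H₀₂ : Function.Bijective (QFDual.omegaBC (B₁ := D) h₀₂)) :
    Function.Bijective (QFDual.omegaBC (B₁ := D) h₀₁) := by
  have hcomp : (QFDual.omegaBC (B₁ := D) h₁₂ : _ → _) ∘ (QFDual.omegaBC (B₁ := D) h₀₁ : _ → _) =
      (QFDual.omegaBC (B₁ := D) h₀₂ : _ → _) := by
    funext z
    exact omegaBC_trans h₀₁ h₁₂ h₀₂ z
  rw [← hcomp] at H₀₂
  exact (Function.Bijective.of_comp_iff' H₁₂ _).mp H₀₂

/-- if the first and the composite base-change maps are bijective, so is the second -/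
theorem omegaBC_bijective_of_trans' (h₀₁ : Algebra.IsPushout A A₁ B' B'₁)
    (h₁₂ : Algebra.IsPushout A₁ A₂ B'₁ B'₂) (h₀₂ : Algebra.IsPushout A A₂ B' B'₂)
    (H₀₁ : Function.Bijective (QFDual.omegaBC (B₁ := D) h₀₁))
    (H₀₂ : Function.Bijective (QFDual.omegaBC (B₁ := D) h₀₂)) :
    Function.Bijective (QFDual.omegaBC (B₁ := D) h₁₂) := by
  have hcomp : (QFDual.omegaBC (B₁ := D) h₁₂ : _ → _) ∘ (QFDual.omegaBC (B₁ := D) h₀₁ : _ → _) =
      (QFDual.omegaBC (B₁ := D) h₀₂ : _ → _) := by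
    funext z
    exact omegaBC_trans h₀₁ h₁₂ h₀₂ z
  rw [← hcomp] at H₀₂
  exact (Function.Bijective.of_comp_iff _ H₀₁).mp H₀₂

/-- the composite of bijective base-change maps is bijective -/
theorem omegaBC_bijective_comp (h₀₁ : Algebra.IsPushout A A₁ B' B'₁)
    (h₁₂ : Algebra.IsPushout A₁ A₂ B'₁ B'₂) (h₀₂ : Algebra.IsPushout A A₂ B' B'₂)
    (H₀₁ : Function.Bijective (QFDual.omegaBC (B₁ := D) h₀₁))
    (H₁₂ : Function.Bijective (QFDual.omegaBC (B₁ := D) h₁₂)) :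
    Function.Bijective (QFDual.omegaBC (B₁ := D) h₀₂) := by
  have hcomp : (QFDual.omegaBC (B₁ := D) h₁₂ : _ → _) ∘ (QFDual.omegaBC (B₁ := D) h₀₁ : _ → _) =
      (QFDual.omegaBC (B₁ := D) h₀₂ : _ → _) := by
    funext z
    exact omegaBC_trans h₀₁ h₁₂ h₀₂ z
  rw [← hcomp]
  exact H₁₂.comp H₀₁

end Groth.Agent.H78.QFBC
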