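import Mathlib
import Groth.Prelude.Def_QFDual
import Groth.Agent.S8958
import Groth.Agent.H78.QFBC.Trans
import Groth.Agent.H78.QFBC.Loc
import Groth.Agent.H78.QFBC.Struct

/-!
# Reduction of base change of `ω` at a prime to a henselian local target
-/

set_option autoImplicit false
set_option linter.style.haveILetI false
set_option linter.unusedSectionVars false
universe u

namespace Groth.Agent.H78.QFBC

open TensorProduct IsLocalRing

variable {A A₁ A₂ B' B'₁ B'₂ : Type u} [CommRing A] [CommRing A₁] [CommRing A₂] [CommRing B']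
  [CommRing B'₁] [CommRing B'₂]
  [Algebra A B'] [Algebra A A₁] [Algebra B' B'₁] [Algebra A₁ B'₁] [Algebra A B'₁]
  [IsScalarTower A A₁ B'₁] [IsScalarTower A B' B'₁]
  [Algebra A₁ A₂] [Algebra B'₁ B'₂] [Algebra A₂ B'₂] [Algebra A₁ B'₂]
  [IsScalarTower A₁ A₂ B'₂] [IsScalarTower A₁ B'₁ B'₂]
  [Algebra A A₂] [Algebra B' B'₂] [Algebra A B'₂]
  [IsScalarTower A A₂ B'₂] [IsScalarTower A B' B'₂]
  [IsScalarTower A A₁ A₂] [IsScalarTower B' B'₁ B'₂]

/-- Let `A₁ → A₂` be flat with `A₂` henselian local and `n₂` a prime of `B'₂ = A₂ ⊗ B'₁` over the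
closed point of `A₂` and over the prime `q'₁` of `B'₁`.  If base change `A → A₂` of `ω` holds on
every local factor of `B'₂` with closed point `n₂`, then base change `A → A₁` of `ω` holds at
`q'₁`. -/
theorem omegaBC_bijective_localization [IsNoetherianRing A₁] [IsNoetherianRing A₂]
    [Module.Finite A₁ B'₁] [Module.Flat A₁ A₂] [HenselianLocalRing A₂]
    (h₀₁ : Algebra.IsPushout A A₁ B' B'₁) (h₁₂ : Algebra.IsPushout A₁ A₂ B'₁ B'₂)
    (h₀₂ : Algebra.IsPushout A A₂ B' B'₂)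
    (q'₁ : Ideal B'₁) [q'₁.IsPrime] (n₂ : Ideal B'₂) [n₂.IsPrime]
    [n₂.LiesOver (maximalIdeal A₂)] (hn₂ : n₂.comap (algebraMap B'₁ B'₂) = q'₁)
    (H : ∀ (e₂ : B'₂) (_ : IsLocalRing (B'₂ ⧸ Ideal.span {1 - e₂})),
      (maximalIdeal (B'₂ ⧸ Ideal.span {1 - e₂})).comap (Ideal.Quotient.mk _) = n₂ →
      Function.Bijective (QFDual.omegaBC (B₁ := B'₂ ⧸ Ideal.span {1 - e₂}) h₀₂)) :
    Function.Bijective (QFDual.omegaBC (B₁ := Localization.AtPrime q'₁) h₀₁) := by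
  obtain ⟨e₂, he₂, hen, hfin, hloc, hcm, ⟨alg, tow, hff⟩, -⟩ :=
    exists_local_factor_struct h₁₂ q'₁ n₂ hn₂
  letI := alg
  haveI := tow
  haveI := hff
  set D := B'₂ ⧸ Ideal.span {1 - e₂}
  set S₁ := Localization.AtPrime q'₁
  have hD02 := H e₂ hloc hcm
  have hD12 : Function.Bijective (QFDual.omegaBC (B₁ := D) h₁₂) :=
    Groth.Agent.S8958.result A₁ B'₁ A₂ B'₂ D h₁₂
  have hD01 : Function.Bijective (QFDual.omegaBC (B₁ := D) h₀₁) :=
    omegaBC_bijective_of_trans h₀₁ h₁₂ h₀₂ hD12 hD02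
  haveI : IsScalarTower B' S₁ D := IsScalarTower.of_algebraMap_eq fun x => by
    rw [IsScalarTower.algebraMap_apply B' B'₁ D, IsScalarTower.algebraMap_apply B'₁ S₁ D,
      ← IsScalarTower.algebraMap_apply B' B'₁ S₁]
  exact omegaBC_bijective_of_faithfullyFlat (B₁ := S₁) (D := D) h₀₁ hD01

end Groth.Agent.H78.QFBC
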