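import Mathlib
import Groth.Prelude.Def_QFDual
import Groth.Agent.H73.DiffBCOmega
import Groth.Agent.H73.OmegaBCFlat
import Groth.Agent.H78.QFFlat.Factor

/-!
# Base change of `ω` on a finite free direct factor

Let `R → R₂` be any ring map, `S` an `R`-algebra with base change `S₂`, `e ∈ S` an idempotent such
that the factor `C = S/(1-e)` is finite free over `R`, and `D' = S₂/(1-e)`.  Then the base change
map `D' ⊗_S Hom_R(S,R) → D' ⊗_{S₂} Hom_{R₂}(S₂,R₂)` is bijective.
-/

set_option autoImplicit false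
set_option linter.style.haveILetI false
set_option linter.unusedSectionVars false
universe u

namespace Groth.Agent.H78.QFBC

open TensorProduct Groth.Agent.H73.DiffBCOmega Groth.Agent.H78.QFFlat

attribute [local instance] iA iB iA2 tA tB tAA' tAB

variable {R R₂ S S₂ : Type u} [CommRing R] [CommRing R₂] [CommRing S] [CommRing S₂]
  [Algebra R S] [Algebra R R₂] [Algebra S S₂] [Algebra R₂ S₂] [Algebra R S₂]
  [IsScalarTower R R₂ S₂] [IsScalarTower R S S₂]

/-- the induced algebra structure on quotients by an idempotent and its image -/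
@[reducible] noncomputable def quotAlgebra (e : S) :
    Algebra (S ⧸ Ideal.span {1 - e}) (S₂ ⧸ Ideal.span {1 - algebraMap S S₂ e}) :=
  (Ideal.quotientMap (Ideal.span {1 - algebraMap S S₂ e}) (algebraMap S S₂) (by
    rw [Ideal.span_le, Set.singleton_subset_iff]
    change algebraMap S S₂ (1 - e) ∈ Ideal.span {1 - algebraMap S S₂ e}
    rw [map_sub, map_one]
    exact Ideal.subset_span rfl)).toAlgebra

attribute [local instance] quotAlgebra

theorem quotAlgebra_mk (e : S) (s : S) :
    algebraMap (S ⧸ Ideal.span {1 - e}) (S₂ ⧸ Ideal.span {1 - algebraMap S S₂ e})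
      (Ideal.Quotient.mk _ s) = Ideal.Quotient.mk _ (algebraMap S S₂ s) := rfl

instance tower_S (e : S) : IsScalarTower S (S ⧸ Ideal.span {1 - e})
    (S₂ ⧸ Ideal.span {1 - algebraMap S S₂ e}) :=
  IsScalarTower.of_algebraMap_eq fun _ => rfl

instance tower_R (e : S) : IsScalarTower R (S ⧸ Ideal.span {1 - e})
    (S₂ ⧸ Ideal.span {1 - algebraMap S S₂ e}) :=
  IsScalarTower.of_algebraMap_eq fun r => by
    rw [IsScalarTower.algebraMap_apply R S (S ⧸ Ideal.span {1 - e}),
      IsScalarTower.algebraMap_apply R S₂ (S₂ ⧸ Ideal.span {1 - algebraMap S S₂ e}),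
      IsScalarTower.algebraMap_apply R S S₂]
    rfl

theorem isPushout_quot (h : Algebra.IsPushout R R₂ S S₂) (e : S) (he : IsIdempotentElem e) :
    Algebra.IsPushout R R₂ (S ⧸ Ideal.span {1 - e})
      (S₂ ⧸ Ideal.span {1 - algebraMap S S₂ e}) := by
  set C := S ⧸ Ideal.span {1 - e}
  set D' := S₂ ⧸ Ideal.span {1 - algebraMap S S₂ e}
  have he₂ : IsIdempotentElem (algebraMap S S₂ e) := he.map _
  haveI : IsLocalization.Away e C :=
    IsLocalization.away_of_isIdempotentElem he Ideal.mk_ker Ideal.Quotient.mk_surjective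
  haveI h2 : IsLocalization.Away (algebraMap S S₂ e) D' :=
    IsLocalization.away_of_isIdempotentElem he₂ Ideal.mk_ker Ideal.Quotient.mk_surjective
  haveI : IsLocalization (Algebra.algebraMapSubmonoid S₂ (Submonoid.powers e)) D' := by
    have : Algebra.algebraMapSubmonoid S₂ (Submonoid.powers e) =
        Submonoid.powers (algebraMap S S₂ e) := Submonoid.map_powers _ _
    rw [this]
    exact h2
  have h1 : Algebra.IsPushout S S₂ C D' :=
    Algebra.isPushout_of_isLocalization (Submonoid.powers e) C S₂ D'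
  haveI : Algebra.IsPushout R S R₂ S₂ := h.symm
  have h3 : Algebra.IsPushout R C R₂ D' :=
    (Algebra.IsPushout.comp_iff R S R₂ (S' := S₂) (T := C) (T' := D')).mpr h1.symm
  exact h3.symm

theorem res_bcFin (h : Algebra.IsPushout R R₂ S S₂) (e : S) (he : IsIdempotentElem e)
    (φ : Disc.Omega R S) :
    res (R := R₂) (S := S₂) (C := S₂ ⧸ Ideal.span {1 - algebraMap S S₂ e})
        Ideal.Quotient.mk_surjective Ideal.mk_ker (he.map (algebraMap S S₂)) (QFDual.bcFin h φ) =
      QFDual.bcFin (isPushout_quot h e he)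
        (res (R := R) (S := S) (C := S ⧸ Ideal.span {1 - e})
          Ideal.Quotient.mk_surjective Ideal.mk_ker he φ) := by
  apply Disc.Omega.ext
  refine (isPushout_quot h e he).out.algHom_ext _ _ fun c => ?_
  obtain ⟨s, rfl⟩ := Ideal.Quotient.mk_surjective c
  change (res _ _ _ (QFDual.bcFin h φ)).toLinearMap
      (algebraMap (S ⧸ Ideal.span {1 - e}) (S₂ ⧸ Ideal.span {1 - algebraMap S S₂ e})
        (Ideal.Quotient.mk _ s)) =
    (QFDual.bcFin (isPushout_quot h e he) (res _ _ _ φ)).toLinearMap
      (algebraMap (S ⧸ Ideal.span {1 - e}) (S₂ ⧸ Ideal.span {1 - algebraMap S S₂ e})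
        (Ideal.Quotient.mk _ s))
  rw [QFDual.bcFin_apply_algebraMap, quotAlgebra_mk]
  have h1 : (res (R := R) (S := S) (C := S ⧸ Ideal.span {1 - e})
      Ideal.Quotient.mk_surjective Ideal.mk_ker he φ).toLinearMap (Ideal.Quotient.mk _ s) =
      φ.toLinearMap (e * s) := res_apply _ _ _ φ s
  have h2 : (res (R := R₂) (S := S₂) (C := S₂ ⧸ Ideal.span {1 - algebraMap S S₂ e})
      Ideal.Quotient.mk_surjective Ideal.mk_ker (he.map (algebraMap S S₂))
      (QFDual.bcFin h φ)).toLinearMap (Ideal.Quotient.mk _ (algebraMap S S₂ s)) =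
      (QFDual.bcFin h φ).toLinearMap (algebraMap S S₂ e * algebraMap S S₂ s) :=
    res_apply _ _ _ (QFDual.bcFin h φ) (algebraMap S S₂ s)
  rw [h1, h2, ← map_mul, QFDual.bcFin_apply_algebraMap]

/-- base change of `ω` holds on a finite free direct factor -/
theorem omegaBC_bijective_factor (h : Algebra.IsPushout R R₂ S S₂) (e : S)
    (he : IsIdempotentElem e) [Module.Finite R (S ⧸ Ideal.span {1 - e})]
    [Module.Free R (S ⧸ Ideal.span {1 - e})] :
    Function.Bijective
      (QFDual.omegaBC (B₁ := S₂ ⧸ Ideal.span {1 - algebraMap S S₂ e}) h) := by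
  set C := S ⧸ Ideal.span {1 - e}
  set D' := S₂ ⧸ Ideal.span {1 - algebraMap S S₂ e}
  have hC := isPushout_quot h e he
  haveI : IsScalarTower S C (Disc.Omega R₂ D') := IsScalarTower.of_algebraMap_smul fun s x => by
    change (algebraMap C D' (algebraMap S C s)) • x = (algebraMap S D' s) • x
    rw [← IsScalarTower.algebraMap_apply]
  have hb1 : IsBaseChange C (res (R := R) (S := S) (C := C)
      Ideal.Quotient.mk_surjective Ideal.mk_ker he) := isBaseChange_res _ _ _
  have hb2 : IsBaseChange D' (bcLin hC) := isBaseChange_bcLin hC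
  have hb12 := IsBaseChange.comp hb1 hb2
  have hb3 : IsBaseChange D' (res (R := R₂) (S := S₂) (C := D')
      Ideal.Quotient.mk_surjective Ideal.mk_ker (he.map (algebraMap S S₂))) :=
    isBaseChange_res _ _ _
  have key : ∀ z : D' ⊗[S] Disc.Omega R S,
      hb3.equiv (QFDual.omegaBC (B₁ := D') h z) = hb12.equiv z := by
    intro z
    induction z using TensorProduct.induction_on with
    | zero => simp
    | tmul d φ =>
      rw [QFDual.omegaBC_tmul, hb3.equiv_tmul, hb12.equiv_tmul, res_bcFin h e he]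
      rfl
    | add x y hx hy => rw [map_add, map_add, hx, hy, map_add]
  have : (QFDual.omegaBC (B₁ := D') h : _ → _) = hb3.equiv.symm ∘ hb12.equiv := by
    funext z
    rw [Function.comp_apply, ← key, LinearEquiv.symm_apply_apply]
  rw [this]
  exact hb3.equiv.symm.bijective.comp hb12.equiv.bijective

end Groth.Agent.H78.QFBC
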