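import Mathlib
import Groth.Prelude.Def_QFDual
import Groth.Agent.S8958
import Groth.Agent.H78.QFBC.Trans
import Groth.Agent.H78.QFBC.Loc
import Groth.Agent.H78.QFBC.FF
import Groth.Agent.H78.QFBC.Struct

/-!
# Base change of `ω` from a henselian local base on a local factor
-/

set_option autoImplicit false
set_option linter.style.haveILetI false
set_option linter.unusedSectionVars false
universe u

namespace Groth.Agent.H78.QFBC

open TensorProduct IsLocalRing

variable {A At A₂ B' B't B'₂ : Type u} [CommRing A] [CommRing At] [CommRing A₂] [CommRing B']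
  [CommRing B't] [CommRing B'₂]
  [Algebra A B'] [Algebra A At] [Algebra B' B't] [Algebra At B't] [Algebra A B't]
  [IsScalarTower A At B't] [IsScalarTower A B' B't]
  [Algebra At A₂] [Algebra B't B'₂] [Algebra A₂ B'₂] [Algebra At B'₂]
  [IsScalarTower At A₂ B'₂] [IsScalarTower At B't B'₂]
  [Algebra A A₂] [Algebra B' B'₂] [Algebra A B'₂]
  [IsScalarTower A A₂ B'₂] [IsScalarTower A B' B'₂]
  [IsScalarTower A At A₂] [IsScalarTower B' B't B'₂]

/-- Let `A → At` be flat with `At` henselian local, `At → A₂` arbitrary, `B'` finite over `A`.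
For a local factor `D = B'₂/(1-e₂)` of `B'₂ = A₂ ⊗_A B'` whose closed point `n₂` contracts to a
prime of `B't = At ⊗_A B'` over the closed point of `At` and to a prime `q₀` of `B'` with
`B'_{q₀}` flat over `A`, the base-change map `D ⊗ ω(A, B') → D ⊗ ω(A₂, B'₂)` is bijective. -/
theorem omegaBC_bijective_local_factor [IsNoetherianRing A] [IsNoetherianRing At]
    [Module.Finite A B'] [Module.Flat A At] [HenselianLocalRing At]
    (h₀t : Algebra.IsPushout A At B' B't) (ht₂ : Algebra.IsPushout At A₂ B't B'₂)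
    (h₀₂ : Algebra.IsPushout A A₂ B' B'₂)
    (n₂ : Ideal B'₂) [n₂.IsPrime]
    (hover : (n₂.comap (algebraMap B't B'₂)).LiesOver (maximalIdeal At))
    (q₀ : Ideal B') [q₀.IsPrime]
    (hq₀ : (n₂.comap (algebraMap B't B'₂)).comap (algebraMap B' B't) = q₀)
    [Module.Flat A (Localization.AtPrime q₀)]
    (e₂ : B'₂) [IsLocalRing (B'₂ ⧸ Ideal.span {1 - e₂})]
    (hcomap : (maximalIdeal (B'₂ ⧸ Ideal.span {1 - e₂})).comap (Ideal.Quotient.mk _) = n₂) :
    Function.Bijective (QFDual.omegaBC (B₁ := B'₂ ⧸ Ideal.span {1 - e₂}) h₀₂) := by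
  set nt : Ideal B't := n₂.comap (algebraMap B't B'₂) with hnt
  haveI : nt.IsPrime := Ideal.comap_isPrime _ _
  haveI := hover
  obtain ⟨e, he, hen, hfin, hloc, hcm, -, hfree⟩ := exists_local_factor_struct h₀t q₀ nt hq₀
  haveI := hfin
  haveI : Module.Free At (B't ⧸ Ideal.span {1 - e}) := hfree inferInstance
  have hFF := omegaBC_bijective_factor ht₂ e he
  set D := B'₂ ⧸ Ideal.span {1 - e₂}
  set D' := B'₂ ⧸ Ideal.span {1 - algebraMap B't B'₂ e}
  -- the image of `e` in `D` is `1`
  have hē : algebraMap B'₂ D (algebraMap B't B'₂ e) = 1 := by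
    set x := algebraMap B'₂ D (algebraMap B't B'₂ e)
    have hx : x * x = x := by
      change algebraMap B'₂ D _ * algebraMap B'₂ D _ = _
      rw [← map_mul, ← map_mul, he.eq]
    have hxu : IsUnit x := by
      by_contra hnu
      apply hen
      have h1 : x ∈ maximalIdeal D := (IsLocalRing.mem_maximalIdeal _).mpr hnu
      have h2 : algebraMap B't B'₂ e ∈ (maximalIdeal D).comap (Ideal.Quotient.mk _) := h1
      rw [hcomap] at h2
      exact h2
    exact hxu.mul_left_cancel (by rw [hx, mul_one])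
  letI algD'D : Algebra D' D := (Ideal.Quotient.lift _ (algebraMap B'₂ D) (by
    intro a ha
    obtain ⟨t, rfl⟩ := Ideal.mem_span_singleton'.mp ha
    rw [map_mul, map_sub, map_one, hē, sub_self, mul_zero])).toAlgebra
  haveI tow1 : IsScalarTower B'₂ D' D := IsScalarTower.of_algebraMap_eq fun x => rfl
  haveI tow2 : IsScalarTower B't D' D := IsScalarTower.of_algebraMap_eq fun x => by
    rw [IsScalarTower.algebraMap_apply B't B'₂ D, IsScalarTower.algebraMap_apply B't B'₂ D',
      ← IsScalarTower.algebraMap_apply B'₂ D' D]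
  have h1 : Function.Bijective (QFDual.omegaBC (B₁ := D) ht₂) :=
    omegaBC_bijective_of_algebra (B₁ := D') (D := D) ht₂ hFF
  have h2 : Function.Bijective (QFDual.omegaBC (B₁ := D) h₀t) :=
    Groth.Agent.S8958.result A B' At B't D h₀t
  exact omegaBC_bijective_comp h₀t ht₂ h₀₂ h2 h1

end Groth.Agent.H78.QFBC
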