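import Mathlib
import Groth.Prelude.Def_QFDual
import Groth.Agent.H78.ComplFam.Cq
import Groth.Agent.H78.QFFlat.Main
import Groth.Agent.H78.QFBC.Half1
import Groth.Agent.H78.QFBC.Half2

/-!
# Base change of `ω` at a prime where the finite algebra is flat
-/

set_option autoImplicit false
set_option linter.style.haveILetI false
set_option linter.unusedSectionVars false
universe u

namespace Groth.Agent.H78.QFBC

open TensorProduct IsLocalRing Groth.Agent.H78.ComplFam Groth.Agent.H78.QFFlat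

section Aux

variable (A : Type u) [CommRing A] [IsNoetherianRing A]

theorem henselianLocalRing_cq (p : Ideal A) [p.IsPrime] : HenselianLocalRing (Cq A p) := by
  apply Groth.Agent.H3.henselianLocalRing_of_henselianRing
  rw [AdicCompletion.maximalIdeal_eq_map]
  have hc : IsAdicComplete ((maximalIdeal (Localization.AtPrime p)).map
      (algebraMap (Localization.AtPrime p) (Cq A p))) (Cq A p) :=
    AdicCompletion.isAdicComplete_self _ (Ideal.fg_of_isNoetherianRing _)
  exact IsAdicComplete.henselianRing _ _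

attribute [local instance] Algebra.TensorProduct.rightAlgebra in
theorem liesOver_maximalIdeal_cq (B' : Type u) [CommRing B'] [Algebra A B'] (q₀ : Ideal B')
    [q₀.IsPrime] (n : Ideal (Cq A (q₀.under A) ⊗[A] B')) [n.IsPrime]
    (hcomap : n.comap (algebraMap B' (Cq A (q₀.under A) ⊗[A] B')) = q₀) :
    n.LiesOver (maximalIdeal (Cq A (q₀.under A))) := by
  constructor
  have hle : maximalIdeal (Cq A (q₀.under A)) ≤
      n.comap (algebraMap (Cq A (q₀.under A)) (Cq A (q₀.under A) ⊗[A] B')) := by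
    rw [cq_maximalIdeal, Ideal.map_le_iff_le_comap]
    intro a ha
    rw [Ideal.mem_comap, Ideal.mem_comap, ← IsScalarTower.algebraMap_apply,
      IsScalarTower.algebraMap_apply A B' (Cq A (q₀.under A) ⊗[A] B'), ← Ideal.mem_comap,
      hcomap]
    exact ha
  have hne : n.comap (algebraMap (Cq A (q₀.under A)) (Cq A (q₀.under A) ⊗[A] B')) ≠ ⊤ :=
    (Ideal.comap_isPrime _ n).ne_top
  exact ((maximalIdeal.isMaximal _).eq_of_le hne hle)

end Aux

section Abstract

variable (A B' A₁ B'₁ At A₂ : Type u) [CommRing A] [CommRing B'] [CommRing A₁] [CommRing B'₁]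
  [CommRing At] [CommRing A₂]
  [IsNoetherianRing A] [IsNoetherianRing A₁] [IsNoetherianRing At] [IsNoetherianRing A₂]
  [Algebra A B'] [Module.Finite A B'] [Algebra A A₁]
  [Algebra B' B'₁] [Algebra A₁ B'₁] [Algebra A B'₁] [IsScalarTower A A₁ B'₁]
  [IsScalarTower A B' B'₁]
  [Algebra A At] [Module.Flat A At] [HenselianLocalRing At]
  [Algebra A₁ A₂] [Module.Flat A₁ A₂] [HenselianLocalRing A₂]
  [Algebra A A₂] [IsScalarTower A A₁ A₂] [Algebra At A₂] [IsScalarTower A At A₂]
  (q'₁ : Ideal B'₁) [q'₁.IsPrime] (q₀ : Ideal B') [q₀.IsPrime]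

local notation "B'₂" => A₂ ⊗[A₁] B'₁
local notation "B't" => At ⊗[A] B'

attribute [local instance] Algebra.TensorProduct.rightAlgebra in
/-- abstract form of `omegaBC_bijective_atPrime`: `At`, `A₂` henselian local, flat over `A`, `A₁`,
with a local `A`-algebra map `At → A₂` -/
theorem omegaBC_bijective_atPrime_aux
    (hloc : (maximalIdeal A₂).comap (algebraMap At A₂) = maximalIdeal At)
    (h₀₁ : Algebra.IsPushout A A₁ B' B'₁)
    (hq : q'₁.comap (algebraMap B' B'₁) = q₀)
    [Module.Flat A (Localization.AtPrime q₀)]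
    (n₂ : Ideal B'₂) [n₂.IsPrime] [n₂.LiesOver (maximalIdeal A₂)]
    (hn₂ : n₂.comap (algebraMap B'₁ B'₂) = q'₁) :
    Function.Bijective (QFDual.omegaBC (B₁ := Localization.AtPrime q'₁) h₀₁) := by
  haveI : Module.Finite A₁ B'₁ :=
    Module.Finite.equiv (h₀₁.out.equiv : A₁ ⊗[A] B' ≃ₗ[A₁] B'₁)
  -- algebra structures on `B'₂`
  haveI : SMulCommClass A₁ At A₂ := ⟨fun a x y => by
    rw [Algebra.smul_def, Algebra.smul_def, Algebra.smul_def, Algebra.smul_def, mul_left_comm]⟩
  letI algAtB'₂ : Algebra At B'₂ := Algebra.TensorProduct.leftAlgebra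
  haveI towAtA₂B'₂ : IsScalarTower At A₂ B'₂ := inferInstance
  letI algB'B'₂ : Algebra B' B'₂ := ((algebraMap B'₁ B'₂).comp (algebraMap B' B'₁)).toAlgebra
  haveI towB'B'₁B'₂ : IsScalarTower B' B'₁ B'₂ := IsScalarTower.of_algebraMap_eq fun _ => rfl
  haveI towAB'₁B'₂ : IsScalarTower A B'₁ B'₂ := IsScalarTower.of_algebraMap_eq fun a => by
    rw [IsScalarTower.algebraMap_apply A A₁ B'₂, IsScalarTower.algebraMap_apply A₁ B'₁ B'₂,
      ← IsScalarTower.algebraMap_apply A A₁ B'₁]
  haveI towAB'B'₂ : IsScalarTower A B' B'₂ := IsScalarTower.of_algebraMap_eq fun a => by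
    rw [IsScalarTower.algebraMap_apply B' B'₁ B'₂, ← IsScalarTower.algebraMap_apply A B' B'₁,
      ← IsScalarTower.algebraMap_apply A B'₁ B'₂]
  haveI towAAtB'₂ : IsScalarTower A At B'₂ :=
      IsScalarTower.of_algebraMap_eq (R := A) (S := At) (A := B'₂) fun a => by
    rw [IsScalarTower.algebraMap_apply At A₂ B'₂, ← IsScalarTower.algebraMap_apply A At A₂,
      ← IsScalarTower.algebraMap_apply A A₂ B'₂]
  -- `B'₂` as a `B't`-algebra
  let gAt : At →ₐ[A] B'₂ := IsScalarTower.toAlgHom A At B'₂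
  let gB' : B' →ₐ[A] B'₂ := IsScalarTower.toAlgHom A B' B'₂
  have hcomm : ∀ (x : At) (y : B'), Commute (gAt x) (gB' y) := fun x y => mul_comm _ _
  letI algB'tB'₂ : Algebra B't B'₂ :=
    (Algebra.TensorProduct.lift gAt gB' hcomm).toRingHom.toAlgebra
  have halg : ∀ z : B't, algebraMap B't B'₂ z = Algebra.TensorProduct.lift gAt gB' hcomm z :=
    fun z => rfl
  haveI towAtB'tB'₂ : IsScalarTower At B't B'₂ :=
    IsScalarTower.of_algebraMap_eq (R := At) (S := B't) (A := B'₂) fun x => by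
      rw [halg]
      change _ = Algebra.TensorProduct.lift gAt gB' hcomm (x ⊗ₜ[A] 1)
      rw [Algebra.TensorProduct.lift_tmul, map_one, mul_one]
      rfl
  haveI towB'B'tB'₂ : IsScalarTower B' B't B'₂ :=
    IsScalarTower.of_algebraMap_eq (R := B') (S := B't) (A := B'₂) fun y => by
      rw [halg]
      change _ = Algebra.TensorProduct.lift gAt gB' hcomm (1 ⊗ₜ[A] y)
      rw [Algebra.TensorProduct.lift_tmul, map_one, one_mul]
      rfl
  haveI towAB'tB'₂ : IsScalarTower A B't B'₂ :=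
    IsScalarTower.of_algebraMap_eq (R := A) (S := B't) (A := B'₂) fun a => by
      rw [halg, AlgHom.commutes]
  -- the pushout squares
  have h₁₂ : Algebra.IsPushout A₁ A₂ B'₁ B'₂ := TensorProduct.isPushout
  have h₀t : Algebra.IsPushout A At B' B't := TensorProduct.isPushout
  have h₀₂ : Algebra.IsPushout A A₂ B' B'₂ := by
    haveI := h₀₁
    exact (Algebra.IsPushout.comp_iff A A₁ B' (S' := B'₁) (T := A₂) (T' := B'₂)).mpr h₁₂
  have ht₂ : Algebra.IsPushout At A₂ B't B'₂ := by
    haveI := h₀t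
    exact (Algebra.IsPushout.comp_iff A At B' (S' := B't) (T := A₂) (T' := B'₂)).mp h₀₂
  -- the prime of `B't` under `n₂`
  have hover : (n₂.comap (algebraMap B't B'₂)).LiesOver (maximalIdeal At) := by
    constructor
    rw [Ideal.under_def, Ideal.comap_comap, ← IsScalarTower.algebraMap_eq At B't B'₂,
      IsScalarTower.algebraMap_eq At A₂ B'₂, ← Ideal.comap_comap,
      ← Ideal.under_def (A := A₂) n₂, ← Ideal.LiesOver.over (p := maximalIdeal A₂) (P := n₂), hloc]
  have hq₀ : (n₂.comap (algebraMap B't B'₂)).comap (algebraMap B' B't) = q₀ := by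
    rw [Ideal.comap_comap, ← IsScalarTower.algebraMap_eq B' B't B'₂,
      IsScalarTower.algebraMap_eq B' B'₁ B'₂, ← Ideal.comap_comap, hn₂, hq]
  refine omegaBC_bijective_localization h₀₁ h₁₂ h₀₂ q'₁ n₂ hn₂ (fun e₂ hlocD hcm => ?_)
  exact omegaBC_bijective_local_factor h₀t ht₂ h₀₂ n₂ hover q₀ hq₀ e₂ hcm

end Abstract

section Main

variable (A B' A₁ B'₁ : Type u) [CommRing A] [CommRing B'] [CommRing A₁] [CommRing B'₁]
  [IsNoetherianRing A] [IsNoetherianRing A₁] [Algebra A B'] [Module.Finite A B'] [Algebra A A₁]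
  [Algebra B' B'₁] [Algebra A₁ B'₁] [Algebra A B'₁] [IsScalarTower A A₁ B'₁]
  [IsScalarTower A B' B'₁]
  (q'₁ : Ideal B'₁) [q'₁.IsPrime] (q₀ : Ideal B') [q₀.IsPrime]

attribute [local instance] Algebra.TensorProduct.rightAlgebra in
/-- **Base change of `ω` at a flat point.**  Let `B'` be finite over the Noetherian ring `A`,
`A → A₁` any map to a Noetherian ring, `B'₁ = A₁ ⊗_A B'`, `q'₁` a prime of `B'₁` lying over
the prime `q₀` of `B'`, and suppose `B'_{q₀}` is `A`-flat.  Then the base-change map of `ω`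
becomes bijective after localizing at `q'₁`. -/
theorem omegaBC_bijective_atPrime (h₀₁ : Algebra.IsPushout A A₁ B' B'₁)
    (hq : q'₁.comap (algebraMap B' B'₁) = q₀)
    [Module.Flat A (Localization.AtPrime q₀)] :
    Function.Bijective (QFDual.omegaBC (B₁ := Localization.AtPrime q'₁) h₀₁) := by
  have hp : (q'₁.under A₁).under A = q₀.under A := by
    rw [← hq]
    ext a
    simp only [Ideal.under_def, Ideal.mem_comap]
    rw [← IsScalarTower.algebraMap_apply, ← IsScalarTower.algebraMap_apply]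
  haveI hHens₂ : HenselianLocalRing (Cq A₁ (q'₁.under A₁)) := henselianLocalRing_cq A₁ _
  haveI hHensT : HenselianLocalRing (Cq A (q₀.under A)) := henselianLocalRing_cq A _
  haveI : Module.Flat A₁ (Cq A₁ (q'₁.under A₁)) := cq_flat A₁ _
  haveI : Module.Flat A (Cq A (q₀.under A)) := cq_flat A _
  -- the prime `n₂`
  obtain ⟨n₂, hn₂prime, hn₂⟩ := exists_prime_tensor_cq A₁ B'₁ q'₁
  haveI := hn₂prime
  have hn₂' : n₂.comap (algebraMap B'₁ (Cq A₁ (q'₁.under A₁) ⊗[A₁] B'₁)) = q'₁ := hn₂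
  haveI hn₂over : n₂.LiesOver (maximalIdeal (Cq A₁ (q'₁.under A₁))) :=
    liesOver_maximalIdeal_cq A₁ B'₁ q'₁ n₂ hn₂'
  -- the map `At → A₂`
  have hqA : (maximalIdeal (Cq A₁ (q'₁.under A₁))).comap
      (algebraMap A (Cq A₁ (q'₁.under A₁))) = q₀.under A := by
    rw [IsScalarTower.algebraMap_eq A A₁ (Cq A₁ (q'₁.under A₁)), ← Ideal.comap_comap,
      cq_comap_maximalIdeal A₁ (q'₁.under A₁)]
    exact hp
  obtain ⟨f⟩ := exists_algHom_of_comap_eq A (q₀.under A) (Cq A₁ (q'₁.under A₁))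
    (cq_complete A₁ (q'₁.under A₁)) hqA
  letI algAtA₂ : Algebra (Cq A (q₀.under A)) (Cq A₁ (q'₁.under A₁)) := f.toRingHom.toAlgebra
  haveI towAAtA₂ : IsScalarTower A (Cq A (q₀.under A)) (Cq A₁ (q'₁.under A₁)) :=
    IsScalarTower.of_algebraMap_eq fun a => (f.commutes a).symm
  have hloc : (maximalIdeal (Cq A₁ (q'₁.under A₁))).comap
      (algebraMap (Cq A (q₀.under A)) (Cq A₁ (q'₁.under A₁))) =
      maximalIdeal (Cq A (q₀.under A)) := by
    have hle : maximalIdeal (Cq A (q₀.under A)) ≤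
        (maximalIdeal (Cq A₁ (q'₁.under A₁))).comap
          (algebraMap (Cq A (q₀.under A)) (Cq A₁ (q'₁.under A₁))) := by
      rw [cq_maximalIdeal, Ideal.map_le_iff_le_comap]
      intro a ha
      rw [Ideal.mem_comap, Ideal.mem_comap, ← IsScalarTower.algebraMap_apply, ← Ideal.mem_comap,
        hqA]
      exact ha
    have hne : (maximalIdeal (Cq A₁ (q'₁.under A₁))).comap
        (algebraMap (Cq A (q₀.under A)) (Cq A₁ (q'₁.under A₁))) ≠ ⊤ :=
      (Ideal.comap_isPrime _ _).ne_top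
    exact ((maximalIdeal.isMaximal _).eq_of_le hne hle).symm
  exact omegaBC_bijective_atPrime_aux A B' A₁ B'₁ (Cq A (q₀.under A)) (Cq A₁ (q'₁.under A₁))
    q'₁ q₀ hloc h₀₁ hq n₂ hn₂'

end Main

end Groth.Agent.H78.QFBC
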