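import Mathlib
import Groth.Prelude.Def_QFDual
import Groth.Agent.H78.QFAss.OpenImm
import Groth.Agent.H78.QFBC.AtPrime

/-!
# Base change of `ω` for a flat quasi-finite map (S8959)
-/

set_option autoImplicit false
set_option linter.style.haveILetI false
set_option linter.unusedSectionVars false
universe u

namespace Groth.Agent.H78.QFBC

open TensorProduct IsLocalRing AlgebraicGeometry

theorem map_mk_eq_lTensor {R : Type u} [CommRing R] (S : Submonoid R) (Rₛ : Type u) [CommRing Rₛ]
    [Algebra R Rₛ] [IsLocalization S Rₛ] {M N : Type u} [AddCommGroup M] [Module R M]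
    [AddCommGroup N] [Module R N] (F : M →ₗ[R] N) :
    IsLocalizedModule.map S (TensorProduct.mk R Rₛ M 1) (TensorProduct.mk R Rₛ N 1) F =
      F.lTensor Rₛ := by
  apply IsLocalizedModule.linearMap_ext S (TensorProduct.mk R Rₛ M 1) (TensorProduct.mk R Rₛ N 1)
  rw [IsLocalizedModule.map_comp]
  ext m
  simp

variable (A B' B A₁ B'₁ B₁ : Type u) [CommRing A] [CommRing B'] [CommRing B] [CommRing A₁]
  [CommRing B'₁] [CommRing B₁] [IsNoetherianRing A] [IsNoetherianRing A₁]
  [Algebra A B'] [Algebra B' B] [Algebra A B] [IsScalarTower A B' B] [Module.Flat A B]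
  [Algebra A A₁] [Algebra B' B'₁] [Algebra A₁ B'₁] [Algebra A B'₁] [IsScalarTower A A₁ B'₁]
  [IsScalarTower A B' B'₁]
  [Algebra B B₁] [Algebra B'₁ B₁] [Algebra B' B₁] [IsScalarTower B' B'₁ B₁]
  [IsScalarTower B' B B₁]

theorem omegaBC_bijective_of_flat (hf : QFDual.IsQFFactor A B' B)
    (h : Algebra.IsPushout A A₁ B' B'₁) :
    Function.Bijective (QFDual.omegaBC (B₁ := B₁) h) := by
  haveI := hf.finite
  refine bijective_of_isLocalized_maximal (R := B₁)
    (fun P _ => Localization.AtPrime P ⊗[B₁] (B₁ ⊗[B'] Disc.Omega A B'))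
    (fun P _ => TensorProduct.mk B₁ (Localization.AtPrime P) (B₁ ⊗[B'] Disc.Omega A B') 1)
    (fun P _ => Localization.AtPrime P ⊗[B₁] (B₁ ⊗[B'₁] Disc.Omega A₁ B'₁))
    (fun P _ => TensorProduct.mk B₁ (Localization.AtPrime P) (B₁ ⊗[B'₁] Disc.Omega A₁ B'₁) 1)
    (QFDual.omegaBC (B₁ := B₁) h) (fun P hP => ?_)
  haveI : P.IsPrime := hP.isPrime
  rw [map_mk_eq_lTensor P.primeCompl (Localization.AtPrime P)]
  rw [lTensor_bijective_iff (B₁ := B₁) (D := Localization.AtPrime P) h]
  -- the primes below `P`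
  set q'₁ : Ideal B'₁ := P.under B'₁ with hq'₁
  haveI : q'₁.IsPrime := Ideal.comap_isPrime _ _
  haveI : P.LiesOver q'₁ := ⟨rfl⟩
  set q : Ideal B := P.under B with hqdef
  haveI : q.IsPrime := Ideal.comap_isPrime _ _
  set q₀ : Ideal B' := q.comap (algebraMap B' B) with hq₀
  haveI : q₀.IsPrime := Ideal.comap_isPrime _ _
  have hq : q'₁.comap (algebraMap B' B'₁) = q₀ := by
    ext b
    simp only [hq'₁, hq₀, hqdef, Ideal.under_def, Ideal.mem_comap]
    rw [← IsScalarTower.algebraMap_apply, ← IsScalarTower.algebraMap_apply]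
  -- `B'_{q₀} ≅ B_q` is `A`-flat
  have hbij := Groth.Agent.H78.QFAss.localRingHom_bijective_of_isOpenImmersion
    (algebraMap B' B) hf.isOpenImmersion q
  let φ : Localization.AtPrime q₀ →ₗ[B'] Localization.AtPrime q :=
    { toFun := Localization.localRingHom q₀ q (algebraMap B' B) rfl
      map_add' := map_add _
      map_smul' := fun b x => by
        rw [RingHom.id_apply, Algebra.smul_def, map_mul, Localization.localRingHom_to_map,
          Algebra.smul_def, ← IsScalarTower.algebraMap_apply] }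
  let e : Localization.AtPrime q₀ ≃ₗ[B'] Localization.AtPrime q :=
    LinearEquiv.ofBijective φ hbij
  haveI : Module.Flat A (Localization.AtPrime q) := inferInstance
  haveI : Module.Flat A (Localization.AtPrime q₀) :=
    Module.Flat.of_linearEquiv (e.restrictScalars A)
  have hS₁ := omegaBC_bijective_atPrime A B' A₁ B'₁ q'₁ q₀ h hq
  letI := Localization.AtPrime.algebraOfLiesOver q'₁ P
  exact omegaBC_bijective_of_algebra (B₁ := Localization.AtPrime q'₁)
    (D := Localization.AtPrime P) h hS₁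

end Groth.Agent.H78.QFBC
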